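import Mathlib
import Cfsg.Agent.Lib.Helper14.PG63.Defs

/-!
# PG63 (S3664), packages [LORD] and [LPRIME] helpers

Elements of `L = Sz(8) ⋊ ⟨frobenius⟩` whose order is a product of two distinct primes.
-/

set_option autoImplicit false

namespace Cfsg.Agent.Lib.Helper86.PG63

open Cfsg.Agent.Lib.Helper14.PG63 Matrix

universe u

section

variable {F : Type u} [Field F]

theorem pow_left_of_right_one (y : Amb F) (h : y.right = 1) (n : ℕ) :
    (y ^ n).left = y.left ^ n ∧ (y ^ n).right = 1 := by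
  induction n with
  | zero =>
    refine ⟨?_, ?_⟩
    · rw [pow_zero, pow_zero, SemidirectProduct.one_left]
    · rw [pow_zero, SemidirectProduct.one_right]
  | succ n ih =>
    obtain ⟨h1, h2⟩ := ih
    constructor
    · rw [pow_succ, SemidirectProduct.mul_left, h1, h2, map_one, MulAut.one_apply, pow_succ]
    · rw [pow_succ, SemidirectProduct.mul_right, h2, h, one_mul]

theorem pow_eq_one_of_right_one (y : Amb F) (h : y.right = 1) (n : ℕ)
    (hn : (y.left : Matrix (Fin 4) (Fin 4) F) ^ n = 1) : y ^ n = 1 := by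
  obtain ⟨h1, h2⟩ := pow_left_of_right_one y h n
  apply SemidirectProduct.ext
  · rw [h1, SemidirectProduct.one_left]
    apply Units.ext
    rw [Units.val_pow_eq_pow_val, hn, Units.val_one]
  · rw [h2, SemidirectProduct.one_right]

theorem orderOf_right_dvd (y : Amb F) : orderOf y.right ∣ orderOf y :=
  orderOf_map_dvd (SemidirectProduct.rightHom : Amb F →* RingAut F) y

theorem orderOf_of_mem_zpowers {G : Type*} [Group G] (f τ : G) (hf : orderOf f = 3)
    (hτ : τ ∈ Subgroup.zpowers f) (h1 : τ ≠ 1) : orderOf τ = 3 := by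
  obtain ⟨k, rfl⟩ := Subgroup.mem_zpowers_iff.mp hτ
  have hf3 : f ^ 3 = 1 := by
    rw [← hf]
    exact pow_orderOf_eq_one f
  have h3 : (f ^ k) ^ 3 = 1 := by
    rw [← zpow_natCast, ← _root_.zpow_mul, mul_comm, _root_.zpow_mul, zpow_natCast, hf3, _root_.one_zpow]
  have hd : orderOf (f ^ k) ∣ 3 := orderOf_dvd_of_pow_eq_one h3
  rcases (Nat.dvd_prime Nat.prime_three).mp hd with h | h
  · exact absurd (orderOf_eq_one_iff.mp h) h1
  · exact h

end

/-- **[LORD]** the products of two primes among the element orders of `L`. -/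
theorem pkgLOrd : PkgLOrd.{u} := by
  intro hStr hCls hFrob F _ _ _ hF x r s hr hs hrs hx
  obtain ⟨hPred, hτ⟩ := hStr hF x.1 x.2
  have hx' : orderOf (x : Amb F) = r * s := by
    rw [Subgroup.orderOf_coe]
    exact hx
  have hyL : (x : Amb F) ∈ L F := x.2
  generalize (x : Amb F) = y at hPred hτ hx' hyL
  by_cases h1 : y.right = 1
  · exfalso
    have key : ∀ n : ℕ, (y.left : Matrix (Fin 4) (Fin 4) F) ^ n = 1 → r ∣ n ∧ s ∣ n := by
      intro n hn
      have : r * s ∣ n := by
        rw [← hx']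
        exact orderOf_dvd_of_pow_eq_one (pow_eq_one_of_right_one _ h1 n hn)
      exact ⟨dvd_trans (dvd_mul_right r s) this, dvd_trans (dvd_mul_left s r) this⟩
    rcases hCls hF _ hPred with ⟨_, h⟩ | ⟨_, h⟩ | ⟨_, h⟩ | ⟨_, h⟩
    · obtain ⟨a, b⟩ := key 4 h
      have ha : r = 2 := (Nat.prime_dvd_prime_iff_eq hr Nat.prime_two).mp
        (hr.dvd_of_dvd_pow (show r ∣ 2 ^ 2 from a))
      have hb : s = 2 := (Nat.prime_dvd_prime_iff_eq hs Nat.prime_two).mp
        (hs.dvd_of_dvd_pow (show s ∣ 2 ^ 2 from b))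
      exact hrs (ha.trans hb.symm)
    · obtain ⟨a, b⟩ := key 5 h
      exact hrs (((Nat.prime_dvd_prime_iff_eq hr (by norm_num)).mp a).trans
        ((Nat.prime_dvd_prime_iff_eq hs (by norm_num)).mp b).symm)
    · obtain ⟨a, b⟩ := key 7 h
      exact hrs (((Nat.prime_dvd_prime_iff_eq hr (by norm_num)).mp a).trans
        ((Nat.prime_dvd_prime_iff_eq hs (by norm_num)).mp b).symm)
    · obtain ⟨a, b⟩ := key 13 h
      exact hrs (((Nat.prime_dvd_prime_iff_eq hr (by norm_num)).mp a).trans
        ((Nat.prime_dvd_prime_iff_eq hs (by norm_num)).mp b).symm)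
  · have h3 : orderOf y.right = 3 := orderOf_of_mem_zpowers _ _ (hFrob hF).1 hτ h1
    have hd : 3 ∣ r * s := by
      rw [← h3, ← hx']
      exact orderOf_right_dvd _
    have ht_right : (y ^ 3).right = 1 := by
      have e : (y ^ 3).right = y.right ^ 3 :=
        map_pow (SemidirectProduct.rightHom : Amb F →* RingAut F) y 3
      rw [e, ← h3, pow_orderOf_eq_one]
    have htL : y ^ 3 ∈ L F := Subgroup.pow_mem _ hyL 3
    obtain ⟨hPt, -⟩ := hStr hF _ htL
    have hcomm : y * y ^ 3 = y ^ 3 * y := by rw [← pow_succ', ← pow_succ]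
    have hleft := congrArg SemidirectProduct.left hcomm
    rw [SemidirectProduct.mul_left, SemidirectProduct.mul_left, ht_right, map_one,
      MulAut.one_apply] at hleft
    have hmat : (y.left : Matrix (Fin 4) (Fin 4) F) *
        ((y ^ 3).left : Matrix (Fin 4) (Fin 4) F).map y.right =
        ((y ^ 3).left : Matrix (Fin 4) (Fin 4) F) * (y.left : Matrix (Fin 4) (Fin 4) F) := by
      have e := congrArg (fun g : GL (Fin 4) F => (g : Matrix (Fin 4) (Fin 4) F)) hleft
      simp only [Units.val_mul, mapHom_coe] at e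
      exact e
    have e1 : (((y ^ 3).left : Matrix (Fin 4) (Fin 4) F).map y.right).trace =
        y.right ((y ^ 3).left : Matrix (Fin 4) (Fin 4) F).trace := by
      simp [Matrix.trace, map_sum]
    have e2 : ((y ^ 3).left : Matrix (Fin 4) (Fin 4) F).map y.right =
        ((y.left⁻¹ : GL (Fin 4) F) : Matrix (Fin 4) (Fin 4) F) *
          ((y ^ 3).left : Matrix (Fin 4) (Fin 4) F) * (y.left : Matrix (Fin 4) (Fin 4) F) := by
      rw [Matrix.mul_assoc, ← hmat, ← Matrix.mul_assoc, ← Units.val_mul, inv_mul_cancel,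
        Units.val_one, Matrix.one_mul]
    have htr : y.right ((y ^ 3).left : Matrix (Fin 4) (Fin 4) F).trace =
        ((y ^ 3).left : Matrix (Fin 4) (Fin 4) F).trace := by
      rw [← e1, e2, Matrix.trace_mul_cycle, ← Units.val_mul, mul_inv_cancel, Units.val_one,
        Matrix.one_mul]
    have htr01 := (hFrob hF).2 y.right hτ h1 _ htr
    have h11 : (1 : F) + 1 = 0 := CharTwo.add_self_eq_zero 1
    have h3rs : r = 3 ∨ s = 3 := by
      rcases (Nat.Prime.dvd_mul Nat.prime_three).mp hd with h | h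
      · exact Or.inl ((Nat.prime_dvd_prime_iff_eq Nat.prime_three hr).mp h).symm
      · exact Or.inr ((Nat.prime_dvd_prime_iff_eq Nat.prime_three hs).mp h).symm
    have hdvd : r * s ∣ 12 ∨ r * s ∣ 15 := by
      rcases hCls hF _ hPt with ⟨_, h⟩ | ⟨_, h⟩ | ⟨h, _⟩ | ⟨h, _⟩
      · left
        have e : (y ^ 3) ^ 4 = 1 := pow_eq_one_of_right_one _ ht_right 4 h
        rw [← pow_mul] at e
        rw [← hx']
        exact orderOf_dvd_of_pow_eq_one e
      · right
        have e : (y ^ 3) ^ 5 = 1 := pow_eq_one_of_right_one _ ht_right 5 h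
        rw [← pow_mul] at e
        rw [← hx']
        exact orderOf_dvd_of_pow_eq_one e
      · exfalso
        rcases htr01 with h0 | h0
        · rw [h0] at h
          simp at h
        · rw [h0, one_pow, h11] at h
          exact one_ne_zero h
      · exfalso
        rcases htr01 with h0 | h0
        · rw [h0] at h
          simp at h
        · rw [h0, one_pow, one_pow, h11] at h
          exact one_ne_zero h
    rcases h3rs with rfl | rfl
    · rcases hdvd with h | h
      · have h4 : s ∣ 4 := Nat.dvd_of_mul_dvd_mul_left (by norm_num : 0 < 3)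
          (show 3 * s ∣ 3 * 4 from h)
        have hs2 : s = 2 := (Nat.prime_dvd_prime_iff_eq hs Nat.prime_two).mp
          (hs.dvd_of_dvd_pow (show s ∣ 2 ^ 2 from h4))
        exact Or.inr (Or.inl ⟨rfl, hs2⟩)
      · have h5 : s ∣ 5 := Nat.dvd_of_mul_dvd_mul_left (by norm_num : 0 < 3)
          (show 3 * s ∣ 3 * 5 from h)
        have hs5 : s = 5 := (Nat.prime_dvd_prime_iff_eq hs (by norm_num)).mp h5
        exact Or.inr (Or.inr (Or.inl ⟨rfl, hs5⟩))
    · rcases hdvd with h | h
      · have h4 : r ∣ 4 := Nat.dvd_of_mul_dvd_mul_right (by norm_num : 0 < 3)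
          (show r * 3 ∣ 4 * 3 from h)
        have hr2 : r = 2 := (Nat.prime_dvd_prime_iff_eq hr Nat.prime_two).mp
          (hr.dvd_of_dvd_pow (show r ∣ 2 ^ 2 from h4))
        exact Or.inl ⟨hr2, rfl⟩
      · have h5 : r ∣ 5 := Nat.dvd_of_mul_dvd_mul_right (by norm_num : 0 < 3)
          (show r * 3 ∣ 5 * 3 from h)
        have hr5 : r = 5 := (Nat.prime_dvd_prime_iff_eq hr (by norm_num)).mp h5
        exact Or.inr (Or.inr (Or.inr ⟨hr5, rfl⟩))

end Cfsg.Agent.Lib.Helper86.PG63
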