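import Mathlib
import Cfsg.Agent.Lib.Helper14.PG63.Defs
import Cfsg.Agent.Lib.Helper86.PG63.LOrd

/-!
# PG63 (S3664), package [LPRIME]: the prime element orders of `L` are `2, 3, 5, 7, 13`.
-/

set_option autoImplicit false

namespace Cfsg.Agent.Lib.Helper86.PG63

open Cfsg.Agent.Lib.Helper14.PG63 Matrix

universe u

/-- **[LPRIME]** the prime element orders of `L`. -/
theorem pkgLPrime : PkgLPrime.{u} := by
  intro hStr hCls hFrob F _ _ _ hF x p hp hx
  obtain ⟨hPred, hτ⟩ := hStr hF x.1 x.2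
  have hx' : orderOf (x : Amb F) = p := by
    rw [Subgroup.orderOf_coe]
    exact hx
  generalize (x : Amb F) = y at hPred hτ hx'
  by_cases h1 : y.right = 1
  · have key : ∀ n : ℕ, (y.left : Matrix (Fin 4) (Fin 4) F) ^ n = 1 → p ∣ n := by
      intro n hn
      rw [← hx']
      exact orderOf_dvd_of_pow_eq_one (pow_eq_one_of_right_one _ h1 n hn)
    rcases hCls hF _ hPred with ⟨_, h⟩ | ⟨_, h⟩ | ⟨_, h⟩ | ⟨_, h⟩
    · have h2 : p ∣ 2 := hp.dvd_of_dvd_pow (show p ∣ 2 ^ 2 from key 4 h)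
      exact Or.inl ((Nat.prime_dvd_prime_iff_eq hp Nat.prime_two).mp h2)
    · exact Or.inr (Or.inr (Or.inl
        ((Nat.prime_dvd_prime_iff_eq hp (by norm_num)).mp (key 5 h))))
    · exact Or.inr (Or.inr (Or.inr (Or.inl
        ((Nat.prime_dvd_prime_iff_eq hp (by norm_num)).mp (key 7 h)))))
    · exact Or.inr (Or.inr (Or.inr (Or.inr
        ((Nat.prime_dvd_prime_iff_eq hp (by norm_num)).mp (key 13 h)))))
  · have h3 : orderOf y.right = 3 := orderOf_of_mem_zpowers _ _ (hFrob hF).1 hτ h1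
    have hd : 3 ∣ p := by
      rw [← h3, ← hx']
      exact orderOf_right_dvd _
    exact Or.inr (Or.inl ((Nat.prime_dvd_prime_iff_eq Nat.prime_three hp).mp hd).symm)

end Cfsg.Agent.Lib.Helper86.PG63
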